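import Cfsg.Agent.Lib.CT.Orthogonality
import Mathlib.LinearAlgebra.Matrix.StdBasis
import Mathlib.LinearAlgebra.Matrix.ToLin

/-!
# The Frobenius-Schur indicator

`ind χ = |G|⁻¹ ∑ χ (g²)` is `0`, `1` or `-1` for an irreducible `χ`, nonzero exactly for the
real-valued ones, and the number of square roots of `g` is `∑ ind χ * χ g`.
-/

namespace Cfsg.Agent.CharFS

open scoped ComplexConjugate
open Representation Module Cfsg.Agent

universe u

variable {G : Type u} [Group G]

/-- The Frobenius-Schur indicator. -/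
noncomputable def ind [Fintype G] (χ : G → ℂ) : ℂ := (Nat.card G : ℂ)⁻¹ * ∑ g : G, χ (g * g)

variable {n : ℕ}

/-- `X ↦ A X Aᵀ`. -/
noncomputable def conjT (A : Matrix (Fin n) (Fin n) ℂ) :
    Module.End ℂ (Matrix (Fin n) (Fin n) ℂ) where
  toFun X := A * X * A.transpose
  map_add' X Y := by rw [Matrix.mul_add, Matrix.add_mul]
  map_smul' c X := by rw [Matrix.mul_smul, Matrix.smul_mul]; rfl

/-- Transposition. -/
noncomputable def transp (n : ℕ) : Module.End ℂ (Matrix (Fin n) (Fin n) ℂ) where
  toFun X := X.transpose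
  map_add' X Y := Matrix.transpose_add X Y
  map_smul' c X := Matrix.transpose_smul c X

theorem trace_conjT (A : Matrix (Fin n) (Fin n) ℂ) :
    LinearMap.trace ℂ _ (conjT A) = A.trace * A.trace := by
  rw [LinearMap.trace_eq_matrix_trace ℂ (Matrix.stdBasis ℂ (Fin n) (Fin n))]
  simp only [Matrix.trace, Matrix.diag, LinearMap.toMatrix_apply, Matrix.stdBasis_eq_single,
    Fintype.sum_prod_type, Finset.sum_mul_sum]
  refine Finset.sum_congr rfl fun i _ => Finset.sum_congr rfl fun j _ => ?_
  simp [conjT, Matrix.stdBasis, Matrix.mul_apply, Matrix.single, ite_and]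

theorem trace_conjT_transp (A : Matrix (Fin n) (Fin n) ℂ) :
    LinearMap.trace ℂ _ (conjT A * transp n) = (A * A).trace := by
  rw [LinearMap.trace_eq_matrix_trace ℂ (Matrix.stdBasis ℂ (Fin n) (Fin n))]
  simp only [Matrix.trace, Matrix.diag, LinearMap.toMatrix_apply, Matrix.stdBasis_eq_single,
    Fintype.sum_prod_type, Matrix.mul_apply]
  refine Finset.sum_congr rfl fun i _ => Finset.sum_congr rfl fun j _ => ?_
  simp [conjT, transp, Matrix.stdBasis, Matrix.mul_apply, Matrix.single, ite_and]

theorem conjT_transp (A : Matrix (Fin n) (Fin n) ℂ) : conjT A * transp n = transp n * conjT A := by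
  refine LinearMap.ext fun X => ?_
  simp [conjT, transp, Matrix.mul_assoc]

/-- The square of a character splits as a symmetric plus an alternating part. -/
theorem exists_sq_split [Finite G] {χ : G → ℂ} (hχ : IsCharacter G χ) :
    ∃ s a : G → ℂ, IsCharacter G s ∧ IsCharacter G a ∧
      (∀ g, s g + a g = χ g * χ g) ∧ ∀ g, s g - a g = χ (g * g) := by
  obtain ⟨n, ρ, rfl⟩ := hχ
  let A : G → Matrix (Fin n) (Fin n) ℂ := fun g => LinearMap.toMatrix' (ρ g)
  have hA : ∀ g h, A (g * h) = A g * A h := fun g h => by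
    simp [A, map_mul, Module.End.mul_eq_comp, LinearMap.toMatrix'_comp]
  have hA1 : A 1 = 1 := by simp [A, Module.End.one_eq_id]
  have htr : ∀ g, (A g).trace = ρ.character g := fun g => by
    simp [A, Representation.character, LinearMap.trace_eq_matrix_trace ℂ (Pi.basisFun ℂ (Fin n)),
      LinearMap.toMatrix_eq_toMatrix']
  let σ : Representation ℂ G (Matrix (Fin n) (Fin n) ℂ) :=
    { toFun := fun g => conjT (A g)
      map_one' := LinearMap.ext fun X => by simp [conjT, hA1]
      map_mul' := fun g h => LinearMap.ext fun X => by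
        simp [conjT, hA, Matrix.mul_assoc] }
  let W₁ : Submodule ℂ (Matrix (Fin n) (Fin n) ℂ) := LinearMap.ker (transp n - 1)
  let W₂ : Submodule ℂ (Matrix (Fin n) (Fin n) ℂ) := LinearMap.ker (transp n + 1)
  have m₁ : ∀ X, X ∈ W₁ ↔ X.transpose = X := fun X => by
    simp [W₁, transp, sub_eq_zero]
  have m₂ : ∀ X, X ∈ W₂ ↔ X.transpose = -X := fun X => by
    simp [W₂, transp, add_eq_zero_iff_eq_neg]
  have h12 : IsCompl W₁ W₂ := by
    refine ⟨Submodule.disjoint_def.mpr fun X h1 h2 => ?_, ?_⟩
    · have h := ((m₁ X).mp h1).symm.trans ((m₂ X).mp h2)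
      ext i j
      have := congrFun (congrFun h i) j
      simp only [Matrix.neg_apply] at this
      simp only [Matrix.zero_apply]
      linear_combination this / 2
    · rw [codisjoint_iff, eq_top_iff]
      intro X _
      have h : X = (2⁻¹ : ℂ) • (X + X.transpose) + (2⁻¹ : ℂ) • (X - X.transpose) := by
        ext i j
        simp only [Matrix.add_apply, Matrix.smul_apply, Matrix.sub_apply, Matrix.transpose_apply,
          smul_eq_mul]
        ring
      rw [h]
      refine Submodule.add_mem_sup ((m₁ _).mpr ?_) ((m₂ _).mpr ?_)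
      · simp [Matrix.transpose_add, add_comm]
      · rw [Matrix.transpose_smul, Matrix.transpose_sub, Matrix.transpose_transpose, ← smul_neg,
          neg_sub]
  have hW₁ : ∀ g, ∀ v ∈ W₁, σ g v ∈ W₁ := fun g v hv => by
    rw [m₁] at hv ⊢
    show (A g * v * (A g).transpose).transpose = A g * v * (A g).transpose
    rw [Matrix.transpose_mul, Matrix.transpose_mul, Matrix.transpose_transpose, hv,
      Matrix.mul_assoc]
  have hW₂ : ∀ g, ∀ v ∈ W₂, σ g v ∈ W₂ := fun g v hv => by
    rw [m₂] at hv ⊢
    show (A g * v * (A g).transpose).transpose = -(A g * v * (A g).transpose)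
    rw [Matrix.transpose_mul, Matrix.transpose_mul, Matrix.transpose_transpose, hv,
      Matrix.neg_mul, Matrix.mul_neg, Matrix.mul_assoc]
  have hsum := CT.char_isCompl σ h12 hW₁ hW₂
  refine ⟨(CT.restrictSub σ W₁ hW₁).character, (CT.restrictSub σ W₂ hW₂).character,
    CT.isCharacter_character _, CT.isCharacter_character _, fun g => ?_, fun g => ?_⟩
  · rw [← htr g, ← trace_conjT]
    exact (congrFun hsum g).symm
  · have e : (Submodule.prodEquivOfIsCompl W₁ W₂ h12).conj
        (LinearMap.prodMap (CT.restrictSub σ W₁ hW₁ g) (-CT.restrictSub σ W₂ hW₂ g)) =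
        conjT (A g) * transp n := by
      refine LinearMap.ext fun v => ?_
      obtain ⟨⟨a, b⟩, rfl⟩ := (Submodule.prodEquivOfIsCompl W₁ W₂ h12).surjective v
      rw [LinearEquiv.conj_apply_apply, LinearEquiv.symm_apply_apply]
      simp only [Module.End.mul_apply, Submodule.coe_prodEquivOfIsCompl', LinearMap.prodMap_apply,
        map_add, Submodule.coe_neg, LinearMap.neg_apply, map_neg]
      have ha : transp n (a : Matrix (Fin n) (Fin n) ℂ) = a := (m₁ _).mp a.2
      have hb : transp n (b : Matrix (Fin n) (Fin n) ℂ) = -b := (m₂ _).mp b.2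
      rw [ha, hb, map_neg]
      rfl
    have h2 := congrArg (LinearMap.trace ℂ _) e
    have hneg : ∀ f : Module.End ℂ W₂, LinearMap.trace ℂ W₂ (-f) = -LinearMap.trace ℂ W₂ f :=
      fun f => by rw [← neg_one_smul ℂ f, map_smul, neg_one_smul]
    rw [LinearMap.trace_conj', LinearMap.trace_prodMap', hneg, trace_conjT_transp, ← hA, htr, ← sub_eq_add_neg] at h2
    exact h2

variable [Fintype G]

theorem ind_eq_classInner (χ : G → ℂ) :
    ind χ = classInner (fun g => χ (g * g)) (fun _ => (1 : ℂ)) := by
  simp [ind, classInner]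

/-- The indicator of an irreducible character is `0`, `1` or `-1`; it is `0` unless the character
is real-valued. -/
theorem ind_cases {χ : G → ℂ} (hχ : IsIrrCharacter G χ) :
    (ind χ = 0 ∧ (fun g => conj (χ g)) ≠ χ) ∨
      ((ind χ = 1 ∨ ind χ = -1) ∧ (fun g => conj (χ g)) = χ) := by
  have hc := CT.isCharacter_of_isIrr hχ
  obtain ⟨s, a, hs, ha, h1, h2⟩ := exists_sq_split hc
  obtain ⟨i, hi⟩ := CT.classInner_character_nat hs (CT.isCharacter_one (G := G))
  obtain ⟨j, hj⟩ := CT.classInner_character_nat ha (CT.isCharacter_one (G := G))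
  have e1 : ind χ = (i : ℂ) - j := by
    rw [ind_eq_classInner, ← hi, ← hj, ← CT.classInner_sub_left]
    exact congrArg (fun f => classInner f _) (funext fun g => (h2 g).symm)
  have e2 : classInner χ (fun g => conj (χ g)) = (i : ℂ) + j := by
    rw [← hi, ← hj, ← CT.classInner_add_left, classInner, classInner]
    simp [h1]
  by_cases hr : (fun g => conj (χ g)) = χ
  · rw [hr, CT.irr_inner_self hχ] at e2
    have hij : i + j = 1 := by exact_mod_cast e2.symm
    refine Or.inr ⟨?_, hr⟩
    rcases Nat.eq_zero_or_pos i with rfl | hi0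
    · exact Or.inr (by rw [e1, show j = 1 by omega]; simp)
    · exact Or.inl (by rw [e1, show j = 0 by omega, show i = 1 by omega]; simp)
  · have hirr : IsIrrCharacter G (fun g => conj (χ g)) := by
      refine CT.isIrr_of_inner_self (CT.isCharacter_conj hc) ?_
      rw [← CT.classInner_conj_symm, ← CT.irr_inner_self hχ]
      simp [classInner, mul_comm]
    rw [CT.irr_inner_of_ne hχ hirr (Ne.symm hr)] at e2
    have hij : i + j = 0 := by exact_mod_cast e2.symm
    exact Or.inl ⟨by rw [e1, show i = 0 by omega, show j = 0 by omega]; simp, hr⟩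

theorem real_of_ind_ne_zero {χ : G → ℂ} (hχ : IsIrrCharacter G χ) (h : ind χ ≠ 0) (g : G) :
    conj (χ g) = χ g := by
  rcases ind_cases hχ with h' | h'
  · exact absurd h'.1 h
  · exact congrFun h'.2 g

theorem im_eq_zero_of_ind_ne_zero {χ : G → ℂ} (hχ : IsIrrCharacter G χ) (h : ind χ ≠ 0) (g : G) :
    (χ g).im = 0 := Complex.conj_eq_iff_im.mp (real_of_ind_ne_zero hχ h g)

/-- The number of square roots. -/
theorem card_sqrt (g : G) :
    (Nat.card {u : G // u * u = g} : ℂ) =
      ∑ χ : IrrCharacter G, ind (χ : G → ℂ) * (χ : G → ℂ) g := by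
  classical
  let θ : G → ℂ := fun x => (Nat.card {u : G // u * u = x} : ℂ)
  have hθ : IsClassFunction G θ := fun x h => by
    show (Nat.card {u : G // u * u = h * x * h⁻¹} : ℂ) = (Nat.card {u : G // u * u = x} : ℂ)
    congr 1
    exact (Nat.card_congr (Equiv.subtypeEquiv (MulAut.conj h).toEquiv fun u => by
      show u * u = x ↔ MulAut.conj h u * MulAut.conj h u = h * x * h⁻¹
      rw [← map_mul]
      exact (MulAut.conj h).injective.eq_iff.symm)).symm
  have h := congrFun (CT.classFunction_eq_sum hθ) g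
  simp only [Finset.sum_apply, Pi.smul_apply, smul_eq_mul] at h
  refine h.trans (Finset.sum_congr rfl fun χ _ => ?_)
  congr 1
  have hsum : classInner θ (χ : G → ℂ) = conj (ind (χ : G → ℂ)) := by
    have : ∑ u : G, conj ((χ : G → ℂ) (u * u)) = ∑ x : G, θ x * conj ((χ : G → ℂ) x) := by
      rw [← Finset.sum_fiberwise Finset.univ (fun u : G => u * u)]
      refine Finset.sum_congr rfl fun x _ => ?_
      rw [Finset.sum_congr rfl fun u hu => by rw [(Finset.mem_filter.mp hu).2], Finset.sum_const,
        nsmul_eq_mul]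
      simp [θ, Nat.card_eq_fintype_card, Fintype.card_subtype]
    rw [classInner, ← this, ind, map_mul, map_inv₀, map_natCast, map_sum]
  rw [hsum]
  rcases ind_cases χ.2 with h' | h'
  · rw [h'.1, map_zero]
  · rcases h'.1 with e | e <;> simp [e]

end Cfsg.Agent.CharFS
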